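import Mathlib.AlgebraicGeometry.Gluing
import Mathlib.AlgebraicGeometry.Morphisms.Separated
import Mathlib.AlgebraicGeometry.Morphisms.FiniteType
import Mathlib.AlgebraicGeometry.Morphisms.ClosedImmersion
import Mathlib.AlgebraicGeometry.Morphisms.Immersion

/-!
# Gluing two schemes along a common open
-/

set_option autoImplicit false
set_option maxHeartbeats 1000000

noncomputable section

universe u

open CategoryTheory CategoryTheory.Limits AlgebraicGeometry TopologicalSpace

namespace Groth.Agent.H22.Glue2

variable {Z X₁ X₂ S : Scheme.{u}} (f : Z ⟶ X₁) (g : Z ⟶ X₂) [IsOpenImmersion f] [IsOpenImmersion g]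

instance isOpenImmersion_map : ∀ {i j : WalkingSpan} (h : i ⟶ j),
    IsOpenImmersion ((span f g).map h) := by
  intro i j h
  cases h with
  | id => rw [show (span f g).map (WidePushoutShape.Hom.id i) = 𝟙 _ from (span f g).map_id i]; infer_instance
  | init k =>
    cases k
    · exact inferInstanceAs (IsOpenImmersion f)
    · exact inferInstanceAs (IsOpenImmersion g)

instance hasPushout : HasPushout f g := inferInstanceAs (HasColimit (span f g))

instance isOpenImmersion_inl : IsOpenImmersion (pushout.inl f g) :=
  inferInstanceAs (IsOpenImmersion (colimit.ι (span f g) WalkingSpan.left))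

instance isOpenImmersion_inr : IsOpenImmersion (pushout.inr f g) :=
  inferInstanceAs (IsOpenImmersion (colimit.ι (span f g) WalkingSpan.right))

theorem range_union : Set.range (pushout.inl f g) ∪ Set.range (pushout.inr f g) = Set.univ := by
  refine Set.eq_univ_of_forall fun x => ?_
  obtain ⟨i, z, rfl⟩ := Scheme.IsLocallyDirected.ι_jointly_surjective (span f g) x
  rcases i with _ | (_ | _)
  · refine Or.inl ⟨f z, ?_⟩
    have h := colimit.w (span f g) WalkingSpan.Hom.fst
    exact (Scheme.Hom.comp_apply f (pushout.inl f g) z).symm.trans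
      (congrArg (fun m : Z ⟶ pushout f g => m z) h)
  · exact Or.inl ⟨z, rfl⟩
  · exact Or.inr ⟨z, rfl⟩

theorem inl_eq_inr_iff (x : X₁) (y : X₂) :
    pushout.inl f g x = pushout.inr f g y ↔ ∃ z, f z = x ∧ g z = y := by
  constructor
  · intro h
    obtain ⟨k, fi, fj, z, hx, hy⟩ :=
      (Scheme.IsLocallyDirected.ι_eq_ι_iff (span f g) (i := WalkingSpan.left)
        (j := WalkingSpan.right) (xi := x) (xj := y)).1 h
    rcases k with _ | (_ | _)
    · cases fi; cases fj
      exact ⟨z, hx, hy⟩
    · cases fj
    · cases fi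
  · rintro ⟨z, rfl, rfl⟩
    rw [← Scheme.Hom.comp_apply, ← Scheme.Hom.comp_apply, pushout.condition]

/-- A relation on an open cover given by closed immersions of the overlaps makes a morphism
separated. -/
theorem isSeparated_of_cover {X : Scheme.{u}} (q : X ⟶ S) {ι : Type u} {Y : ι → Scheme.{u}}
    (e : ∀ i, Y i ⟶ X) [∀ i, IsOpenImmersion (e i)] (hcov : ∀ x, ∃ i, x ∈ Set.range (e i))
    (h : ∀ i j, ∃ (W : Scheme.{u}) (l : W ⟶ pullback (e i ≫ q) (e j ≫ q)), IsClosedImmersion l ∧
      l ≫ pullback.fst _ _ ≫ e i = l ≫ pullback.snd _ _ ≫ e j ∧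
      ∀ (T : Scheme.{u}) (t : T ⟶ pullback (e i ≫ q) (e j ≫ q)),
        t ≫ pullback.fst _ _ ≫ e i = t ≫ pullback.snd _ _ ≫ e j → Set.range t ⊆ Set.range l) :
    IsSeparated q := by
  suffices hcl : IsClosed (Set.range (pullback.diagonal q)) from
    ⟨IsClosedImmersion.of_isPreimmersion _ hcl⟩
  rw [← isOpen_compl_iff, isOpen_iff_forall_mem_open]
  intro w hw
  obtain ⟨i, hi⟩ := hcov (pullback.fst q q w)
  obtain ⟨j, hj⟩ := hcov (pullback.snd q q w)
  let M : pullback (e i ≫ q) (e j ≫ q) ⟶ pullback q q :=
    pullback.map _ _ _ _ (e i) (e j) (𝟙 S) (by simp) (by simp)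
  obtain ⟨W, l, hl, hlc, hlu⟩ := h i j
  have hM : w ∈ Set.range M := by
    rw [Scheme.Pullback.range_map]
    exact ⟨hi, hj⟩
  refine ⟨M '' (Set.range l)ᶜ, ?_, M.isOpenEmbedding.isOpenMap _
    l.isClosedEmbedding.isClosed_range.isOpen_compl, ?_⟩
  · rintro _ ⟨v, hv, rfl⟩ ⟨x, hx⟩
    refine hv ?_
    have hc : pullback.snd (pullback.diagonal q) M ≫ pullback.fst _ _ ≫ e i =
        pullback.snd (pullback.diagonal q) M ≫ pullback.snd _ _ ≫ e j := by
      have h1 := congrArg (· ≫ pullback.fst q q) (pullback.condition (f := pullback.diagonal q) (g := M))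
      have h2 := congrArg (· ≫ pullback.snd q q) (pullback.condition (f := pullback.diagonal q) (g := M))
      simp only [Category.assoc, pullback.diagonal_fst, pullback.diagonal_snd, Category.comp_id, M,
        pullback.lift_fst, pullback.lift_snd, pullback.map] at h1 h2
      exact h1.symm.trans h2
    refine hlu _ _ hc ?_
    rw [Scheme.Pullback.range_snd]
    exact ⟨x, hx⟩
  · obtain ⟨v, rfl⟩ := hM
    refine ⟨v, fun ⟨z, hz⟩ => hw ⟨(l ≫ pullback.fst _ _ ≫ e i) z, ?_⟩, rfl⟩
    have h3 : (l ≫ pullback.fst _ _ ≫ e i) ≫ pullback.diagonal q = l ≫ M := by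
      apply pullback.hom_ext
      · simp only [M, pullback.diagonal_fst, pullback.lift_fst, pullback.lift_snd, pullback.lift_fst_assoc, pullback.lift_snd_assoc, Category.assoc, pullback.map, Category.comp_id]
      · simp only [Category.assoc, pullback.diagonal_snd, Category.comp_id, M, pullback.lift_snd,
          pullback.map]
        exact hlc
    rw [← hz, ← Scheme.Hom.comp_apply, h3, Scheme.Hom.comp_apply]

/-- The glued scheme is separated when the graph of the gluing is closed. -/
theorem isSeparated_desc (a : X₁ ⟶ S) (b : X₂ ⟶ S) (h : f ≫ a = g ≫ b) [IsSeparated a]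
    [IsSeparated b] [hc : IsClosedImmersion (pullback.lift f g h)] :
    IsSeparated (pushout.desc a b h) := by
  set q := pushout.desc a b h with hq
  let Y : ULift.{u} Bool → Scheme.{u} := fun i => cond i.down X₁ X₂
  let e : ∀ i, Y i ⟶ pushout f g := fun i =>
    match i with
    | ⟨true⟩ => pushout.inl f g
    | ⟨false⟩ => pushout.inr f g
  haveI : ∀ i, IsOpenImmersion (e i) := fun i =>
    match i with
    | ⟨true⟩ => isOpenImmersion_inl f g
    | ⟨false⟩ => isOpenImmersion_inr f g
  have ha : pushout.inl f g ≫ q = a := pushout.inl_desc _ _ _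
  have hb : pushout.inr f g ≫ q = b := pushout.inr_desc _ _ _
  haveI : IsSeparated (pushout.inl f g ≫ q) := by rw [ha]; infer_instance
  haveI : IsSeparated (pushout.inr f g ≫ q) := by rw [hb]; infer_instance
  have hfac : ∀ {T : Scheme.{u}} (u : T ⟶ X₁) (v : T ⟶ X₂),
      u ≫ pushout.inl f g = v ≫ pushout.inr f g → ∃ z : T ⟶ Z, z ≫ f = u ∧ z ≫ g = v := by
    intro T u v huv
    have hr : Set.range u ⊆ Set.range f := by
      rintro _ ⟨t, rfl⟩
      obtain ⟨z, hz, -⟩ := (inl_eq_inr_iff f g (u t) (v t)).1 (by
        rw [← Scheme.Hom.comp_apply, huv, Scheme.Hom.comp_apply])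
      exact ⟨z, hz⟩
    refine ⟨IsOpenImmersion.lift f u hr, IsOpenImmersion.lift_fac _ _ _, ?_⟩
    rw [← cancel_mono (pushout.inr f g), Category.assoc, ← pushout.condition,
      IsOpenImmersion.lift_fac_assoc, huv]
  refine isSeparated_of_cover q e (fun x => ?_) ?_
  · rcases (Set.ext_iff.1 (range_union f g) x).2 trivial with ⟨z, hz⟩ | ⟨z, hz⟩
    · exact ⟨⟨true⟩, z, hz⟩
    · exact ⟨⟨false⟩, z, hz⟩
  rintro ⟨i⟩ ⟨j⟩
  cases i <;> cases j
  · refine ⟨X₂, pullback.diagonal (pushout.inr f g ≫ q), inferInstance, ?_, fun T t ht => ?_⟩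
    · exact (pullback.diagonal_fst_assoc _ _).trans (pullback.diagonal_snd_assoc _ _).symm
    · have : t = (t ≫ pullback.fst _ _) ≫ pullback.diagonal _ := by
        refine pullback.hom_ext (by simp [e]) ?_
        simp only [e, ← Category.assoc, cancel_mono] at ht
        simpa [e] using ht.symm
      rw [this, Scheme.Hom.comp_base, TopCat.coe_comp]
      exact Set.range_comp_subset_range _ _
  · haveI : IsClosedImmersion (pullback.lift (f := pushout.inr f g ≫ q) (g := pushout.inl f g ≫ q)
        g f (by rw [ha, hb]; exact h.symm)) := by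
      let s : pullback a b ⟶ pullback (pushout.inr f g ≫ q) (pushout.inl f g ≫ q) :=
        pullback.lift (pullback.snd a b) (pullback.fst a b) (by rw [ha, hb]; exact pullback.condition.symm)
      haveI : IsIso s := ⟨pullback.lift (pullback.snd _ _) (pullback.fst _ _)
        (by rw [← ha, ← hb]; exact pullback.condition.symm), by
          apply pullback.hom_ext <;> rw [Category.assoc] <;>
            simp only [s, pullback.lift_fst, pullback.lift_snd, Category.id_comp], by
          apply pullback.hom_ext <;> rw [Category.assoc] <;>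
            simp only [s, pullback.lift_fst, pullback.lift_snd, Category.id_comp]⟩
      have : pullback.lift g f (by rw [ha, hb]; exact h.symm) = pullback.lift f g h ≫ s := by
        apply pullback.hom_ext <;> simp only [s, pullback.lift_fst, pullback.lift_snd, pullback.lift_fst_assoc, pullback.lift_snd_assoc, Category.assoc, pullback.map, Category.comp_id]
      rw [this]; infer_instance
    refine ⟨Z, pullback.lift g f _, inferInstance, ?_, fun T t ht => ?_⟩
    · simp only [e, pullback.lift_fst, pullback.lift_snd, pullback.lift_fst_assoc, pullback.lift_snd_assoc, Category.assoc, pullback.map, Category.comp_id, pushout.condition]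
    · simp only [e, ← Category.assoc] at ht
      obtain ⟨z, hz1, hz2⟩ := hfac _ _ ht.symm
      have : t = z ≫ pullback.lift g f (by rw [ha, hb]; exact h.symm) :=
        pullback.hom_ext (by simp only [e, hz2, pullback.lift_fst, pullback.lift_snd, pullback.lift_fst_assoc, pullback.lift_snd_assoc, Category.assoc, pullback.map, Category.comp_id]) (by simp only [e, hz1, pullback.lift_fst, pullback.lift_snd, pullback.lift_fst_assoc, pullback.lift_snd_assoc, Category.assoc, pullback.map, Category.comp_id])
      rw [this, Scheme.Hom.comp_base, TopCat.coe_comp]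
      exact Set.range_comp_subset_range _ _
  · haveI : IsClosedImmersion (pullback.lift (f := pushout.inl f g ≫ q) (g := pushout.inr f g ≫ q)
        f g (by rw [ha, hb]; exact h)) := by
      have : pullback.lift (f := pushout.inl f g ≫ q) (g := pushout.inr f g ≫ q) f g
          (by rw [ha, hb]; exact h) = pullback.lift f g h ≫ (pullback.congrHom ha hb).inv := by
        apply pullback.hom_ext <;> simp only [pullback.congrHom_inv, pullback.lift_fst, pullback.lift_snd, pullback.lift_fst_assoc, pullback.lift_snd_assoc, Category.assoc, pullback.map, Category.comp_id]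
      rw [this]; infer_instance
    refine ⟨Z, pullback.lift f g _, inferInstance, ?_, fun T t ht => ?_⟩
    · simp only [e, pullback.lift_fst, pullback.lift_snd, pullback.lift_fst_assoc, pullback.lift_snd_assoc, Category.assoc, pullback.map, Category.comp_id, pushout.condition]
    · simp only [e, ← Category.assoc] at ht
      obtain ⟨z, hz1, hz2⟩ := hfac _ _ ht
      have : t = z ≫ pullback.lift f g (by rw [ha, hb]; exact h) :=
        pullback.hom_ext (by simp only [e, hz1, pullback.lift_fst, pullback.lift_snd, pullback.lift_fst_assoc, pullback.lift_snd_assoc, Category.assoc, pullback.map, Category.comp_id]) (by simp only [e, hz2, pullback.lift_fst, pullback.lift_snd, pullback.lift_fst_assoc, pullback.lift_snd_assoc, Category.assoc, pullback.map, Category.comp_id])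
      rw [this, Scheme.Hom.comp_base, TopCat.coe_comp]
      exact Set.range_comp_subset_range _ _
  · refine ⟨X₁, pullback.diagonal (pushout.inl f g ≫ q), inferInstance, ?_, fun T t ht => ?_⟩
    · exact (pullback.diagonal_fst_assoc _ _).trans (pullback.diagonal_snd_assoc _ _).symm
    · have : t = (t ≫ pullback.fst _ _) ≫ pullback.diagonal _ := by
        refine pullback.hom_ext (by simp [e]) ?_
        simp only [e, ← Category.assoc, cancel_mono] at ht
        simpa [e] using ht.symm
      rw [this, Scheme.Hom.comp_base, TopCat.coe_comp]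
      exact Set.range_comp_subset_range _ _

theorem locallyOfFiniteType_desc (a : X₁ ⟶ S) (b : X₂ ⟶ S) (h : f ≫ a = g ≫ b)
    [LocallyOfFiniteType a] [LocallyOfFiniteType b] : LocallyOfFiniteType (pushout.desc a b h) := by
  let 𝒰 : (pushout f g).OpenCover :=
    Scheme.Cover.mkOfCovers (ULift.{u} Bool) (fun i => cond i.down X₁ X₂)
      (fun i => match i with | ⟨true⟩ => pushout.inl f g | ⟨false⟩ => pushout.inr f g)
      (fun x => by
        rcases (Set.ext_iff.1 (range_union f g) x).2 trivial with ⟨z, hz⟩ | ⟨z, hz⟩
        · exact ⟨⟨true⟩, z, hz⟩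
        · exact ⟨⟨false⟩, z, hz⟩)
      (fun i => match i with | ⟨true⟩ => isOpenImmersion_inl f g | ⟨false⟩ => isOpenImmersion_inr f g)
  rw [IsZariskiLocalAtSource.iff_of_openCover (P := @LocallyOfFiniteType) 𝒰]
  rintro ⟨i⟩
  cases i
  · show LocallyOfFiniteType (pushout.inr f g ≫ _)
    rw [pushout.inr_desc]; infer_instance
  · show LocallyOfFiniteType (pushout.inl f g ≫ _)
    rw [pushout.inl_desc]; infer_instance

theorem quasiCompact_desc [CompactSpace X₁] [CompactSpace X₂] [QuasiSeparatedSpace S]
    (a : X₁ ⟶ S) (b : X₂ ⟶ S) (h : f ≫ a = g ≫ b) : QuasiCompact (pushout.desc a b h) := by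
  haveI : CompactSpace ↥(pushout f g) := ⟨by
    rw [← range_union f g]
    exact (isCompact_range (pushout.inl f g).continuous).union
      (isCompact_range (pushout.inr f g).continuous)⟩
  infer_instance

end Groth.Agent.H22.Glue2
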