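import Groth.Agent.H22.Glue2.Basic
import Groth.Agent.H22.StrictTransform.Section
import Groth.Agent.Lib.SchDense.Basic

/-!
# Gluing along mutually inverse partial morphisms
-/

set_option autoImplicit false
set_option maxHeartbeats 1000000

noncomputable section

universe u

open CategoryTheory CategoryTheory.Limits AlgebraicGeometry TopologicalSpace

namespace Groth.Agent.H22.Glue2

open Groth.Agent.Lib

theorem std_into_opens {U X : Scheme.{u}} {j : U ⟶ X} [IsSchemeTheoreticallyDominant j] [QuasiCompact j]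
    (W : X.Opens) (l : U ⟶ (W : Scheme.{u})) (hl : l ≫ W.ι = j) :
    IsSchemeTheoreticallyDominant l := by
  refine IsSchemeTheoreticallyDominant.of_isPullback (f := j) (g := W.ι) (pX := 𝟙 U) ?_
  refine IsPullback.of_iso_pullback ⟨by rw [Category.id_comp, hl]⟩
    ⟨pullback.lift (𝟙 U) l (by rw [Category.id_comp, hl]), pullback.fst j W.ι,
      pullback.lift_fst _ _ _, ?_⟩ (pullback.lift_fst _ _ _) (pullback.lift_snd _ _ _)
  apply pullback.hom_ext
  · rw [Category.assoc, pullback.lift_fst, Category.comp_id, Category.id_comp]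
  · rw [← cancel_mono W.ι, Category.assoc, Category.assoc, pullback.lift_snd_assoc, hl,
      Category.id_comp]
    exact pullback.condition

theorem exists_glue_mutual {S X₁ X₂ U : Scheme.{u}} [IsNoetherian S]
    (p₁ : X₁ ⟶ S) (p₂ : X₂ ⟶ S) [IsSeparated p₁] [QuasiCompact p₁] [LocallyOfFiniteType p₁]
    [IsSeparated p₂] [QuasiCompact p₂] [LocallyOfFiniteType p₂]
    (j₁ : U ⟶ X₁) (j₂ : U ⟶ X₂) [IsOpenImmersion j₁] [IsOpenImmersion j₂]
    [IsSchemeTheoreticallyDominant j₁] [IsSchemeTheoreticallyDominant j₂]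
    (W₁ : X₁.Opens) (φ : (W₁ : Scheme.{u}) ⟶ X₂) (hφ : W₁.ι ≫ p₁ = φ ≫ p₂)
    (hφc : IsClosed (Set.range (fun w => (pullback.lift W₁.ι φ hφ) w)))
    (k₁ : U ⟶ (W₁ : Scheme.{u})) (hk₁ : k₁ ≫ W₁.ι = j₁) (hk₁' : k₁ ≫ φ = j₂)
    (W₂ : X₂.Opens) (ψ : (W₂ : Scheme.{u}) ⟶ X₁) (hψ : W₂.ι ≫ p₂ = ψ ≫ p₁)
    (hψc : IsClosed (Set.range (fun w => (pullback.lift W₂.ι ψ hψ) w)))
    (k₂ : U ⟶ (W₂ : Scheme.{u})) (hk₂ : k₂ ≫ W₂.ι = j₂) (hk₂' : k₂ ≫ ψ = j₁) :
    ∃ (Y : Scheme.{u}) (q : Y ⟶ S) (i₁ : X₁ ⟶ Y) (i₂ : X₂ ⟶ Y), IsSeparated q ∧ QuasiCompact q ∧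
      LocallyOfFiniteType q ∧ IsOpenImmersion i₁ ∧ IsOpenImmersion i₂ ∧ i₁ ≫ q = p₁ ∧ i₂ ≫ q = p₂ ∧
      j₁ ≫ i₁ = j₂ ≫ i₂ ∧ QuasiCompact (j₁ ≫ i₁) ∧ IsSchemeTheoreticallyDominant (j₁ ≫ i₁) := by
  haveI : CompactSpace X₁ := QuasiCompact.compactSpace_of_compactSpace p₁
  haveI : CompactSpace X₂ := QuasiCompact.compactSpace_of_compactSpace p₂
  haveI : IsLocallyNoetherian X₁ := LocallyOfFiniteType.isLocallyNoetherian p₁
  haveI : IsLocallyNoetherian X₂ := LocallyOfFiniteType.isLocallyNoetherian p₂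
  haveI : IsNoetherian X₁ := { }
  haveI : IsNoetherian X₂ := { }
  haveI : NoetherianSpace U := j₁.isOpenEmbedding.isInducing.noetherianSpace
  haveI : CompactSpace U := ⟨NoetherianSpace.isCompact _⟩
  haveI : QuasiCompact j₁ := quasiCompact_of_compactSpace j₁
  haveI : QuasiCompact j₂ := quasiCompact_of_compactSpace j₂
  let V₁ : (W₁ : Scheme.{u}).Opens := φ ⁻¹ᵁ W₂
  let V₂ : (W₂ : Scheme.{u}).Opens := ψ ⁻¹ᵁ W₁
  let φ' : (V₁ : Scheme.{u}) ⟶ (W₂ : Scheme.{u}) := φ ∣_ W₂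
  let ψ' : (V₂ : Scheme.{u}) ⟶ (W₁ : Scheme.{u}) := ψ ∣_ W₁
  have hφ' : φ' ≫ W₂.ι = V₁.ι ≫ φ := morphismRestrict_ι _ _
  have hψ' : ψ' ≫ W₁.ι = V₂.ι ≫ ψ := morphismRestrict_ι _ _
  have hr₁ : Set.range k₁ ⊆ Set.range V₁.ι := by
    rw [Scheme.Opens.range_ι]; rintro _ ⟨t, rfl⟩
    show φ (k₁ t) ∈ W₂
    rw [← Scheme.Hom.comp_apply, hk₁', ← hk₂, Scheme.Hom.comp_apply]
    exact (k₂ t).2
  have hr₂ : Set.range k₂ ⊆ Set.range V₂.ι := by
    rw [Scheme.Opens.range_ι]; rintro _ ⟨t, rfl⟩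
    show ψ (k₂ t) ∈ W₁
    rw [← Scheme.Hom.comp_apply, hk₂', ← hk₁, Scheme.Hom.comp_apply]
    exact (k₁ t).2
  let l₁ := IsOpenImmersion.lift V₁.ι k₁ hr₁
  let l₂ := IsOpenImmersion.lift V₂.ι k₂ hr₂
  have hl₁ : l₁ ≫ V₁.ι = k₁ := IsOpenImmersion.lift_fac _ _ _
  have hl₂ : l₂ ≫ V₂.ι = k₂ := IsOpenImmersion.lift_fac _ _ _
  have hl₁' : l₁ ≫ φ' = k₂ := by
    rw [← cancel_mono W₂.ι, Category.assoc, hφ', reassoc_of% hl₁, hk₁', hk₂]
  have hl₂' : l₂ ≫ ψ' = k₁ := by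
    rw [← cancel_mono W₁.ι, Category.assoc, hψ', reassoc_of% hl₂, hk₂', hk₁]
  haveI : IsSchemeTheoreticallyDominant k₁ := std_into_opens W₁ k₁ hk₁
  haveI : IsSchemeTheoreticallyDominant k₂ := std_into_opens W₂ k₂ hk₂
  haveI : QuasiCompact k₁ := by
    haveI : QuasiCompact (k₁ ≫ W₁.ι) := by rw [hk₁]; infer_instance
    exact QuasiCompact.of_comp k₁ W₁.ι
  haveI : QuasiCompact k₂ := by
    haveI : QuasiCompact (k₂ ≫ W₂.ι) := by rw [hk₂]; infer_instance
    exact QuasiCompact.of_comp k₂ W₂.ι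
  haveI : IsSchemeTheoreticallyDominant l₁ := std_into_opens V₁ l₁ hl₁
  haveI : IsSchemeTheoreticallyDominant l₂ := std_into_opens V₂ l₂ hl₂
  haveI : QuasiCompact l₁ := by
    haveI : QuasiCompact (l₁ ≫ V₁.ι) := by rw [hl₁]; infer_instance
    exact QuasiCompact.of_comp l₁ V₁.ι
  haveI : QuasiCompact l₂ := by
    haveI : QuasiCompact (l₂ ≫ V₂.ι) := by rw [hl₂]; infer_instance
    exact QuasiCompact.of_comp l₂ V₂.ι
  have hψφ : φ' ≫ ψ = V₁.ι ≫ W₁.ι := by
    refine SchDense.Basic.ext_of_std p₁ ?_ l₁ ?_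
    · rw [Category.assoc, ← hψ, reassoc_of% hφ', Category.assoc, hφ]
    · rw [reassoc_of% hl₁', reassoc_of% hl₁, hk₂', hk₁]
  have hφψ : ψ' ≫ φ = V₂.ι ≫ W₂.ι := by
    refine SchDense.Basic.ext_of_std p₂ ?_ l₂ ?_
    · rw [Category.assoc, ← hφ, reassoc_of% hψ', Category.assoc, hψ]
    · rw [reassoc_of% hl₂', reassoc_of% hl₂, hk₁', hk₂]
  have hrφ : Set.range φ' ⊆ Set.range V₂.ι := by
    rw [Scheme.Opens.range_ι]; rintro _ ⟨t, rfl⟩
    show ψ (φ' t) ∈ W₁
    rw [← Scheme.Hom.comp_apply, hψφ, Scheme.Hom.comp_apply]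
    exact (V₁.ι t).2
  have hrψ : Set.range ψ' ⊆ Set.range V₁.ι := by
    rw [Scheme.Opens.range_ι]; rintro _ ⟨t, rfl⟩
    show φ (ψ' t) ∈ W₂
    rw [← Scheme.Hom.comp_apply, hφψ, Scheme.Hom.comp_apply]
    exact (V₂.ι t).2
  let a := IsOpenImmersion.lift V₂.ι φ' hrφ
  let b := IsOpenImmersion.lift V₁.ι ψ' hrψ
  have hab : a ≫ b = 𝟙 _ := by
    rw [← cancel_mono V₁.ι, ← cancel_mono W₁.ι]
    simp only [Category.assoc, Category.id_comp, a, b, IsOpenImmersion.lift_fac_assoc]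
    rw [hψ', IsOpenImmersion.lift_fac_assoc, hψφ]
  have hba : b ≫ a = 𝟙 _ := by
    rw [← cancel_mono V₂.ι, ← cancel_mono W₂.ι]
    simp only [Category.assoc, Category.id_comp, a, b, IsOpenImmersion.lift_fac_assoc]
    rw [hφ', IsOpenImmersion.lift_fac_assoc, hφψ]
  haveI : IsIso a := ⟨b, hab, hba⟩
  let f : (V₁ : Scheme.{u}) ⟶ X₁ := V₁.ι ≫ W₁.ι
  let g : (V₁ : Scheme.{u}) ⟶ X₂ := a ≫ V₂.ι ≫ W₂.ι
  have hg : g = V₁.ι ≫ φ := by simp only [g, a, IsOpenImmersion.lift_fac_assoc, hφ']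
  have hfg : f ≫ p₁ = g ≫ p₂ := by rw [hg]; simp only [f, Category.assoc, hφ]
  haveI : IsClosedImmersion (pullback.lift f g hfg) := by
    haveI : IsImmersion (pullback.lift f g hfg ≫ pullback.fst p₁ p₂) := by
      rw [pullback.lift_fst]; infer_instance
    haveI : IsImmersion (pullback.lift f g hfg) :=
      IsImmersion.of_comp _ (pullback.fst p₁ p₂)
    refine IsClosedImmersion.of_isPreimmersion _ ?_
    let σ : pullback p₁ p₂ ⟶ pullback p₂ p₁ := (pullbackSymmetry p₁ p₂).hom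
    have he : Set.range (pullback.lift f g hfg) =
        Set.range (fun w => (pullback.lift W₁.ι φ hφ) w) ∩
          σ ⁻¹' Set.range (fun w => (pullback.lift W₂.ι ψ hψ) w) := by
      have e₁ : pullback.lift f g hfg = V₁.ι ≫ pullback.lift W₁.ι φ hφ := by
        apply pullback.hom_ext
        · simp only [pullback.lift_fst, Category.assoc, f]
        · simp only [pullback.lift_snd, Category.assoc, hg]
      have e₂ : pullback.lift f g hfg ≫ σ = φ' ≫ pullback.lift W₂.ι ψ hψ := by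
        apply pullback.hom_ext
        · simp only [σ, Category.assoc, pullbackSymmetry_hom_comp_fst, pullback.lift_snd,
            pullback.lift_fst, hg, hφ']
        · simp only [σ, Category.assoc, pullbackSymmetry_hom_comp_snd, pullback.lift_snd,
            pullback.lift_fst, f, hψφ]
      refine subset_antisymm ?_ ?_
      · rintro _ ⟨v, rfl⟩
        refine ⟨⟨V₁.ι v, ?_⟩, φ' v, ?_⟩
        · show pullback.lift W₁.ι φ hφ (V₁.ι v) = _
          rw [← Scheme.Hom.comp_apply, e₁]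
        · show pullback.lift W₂.ι ψ hψ (φ' v) = σ _
          rw [← Scheme.Hom.comp_apply, ← e₂, Scheme.Hom.comp_apply]
      · rintro x ⟨⟨w, hw⟩, w', hw'⟩
        have hwV : φ w ∈ W₂ := by
          have h1 : φ w = pullback.snd p₁ p₂ x := by
            rw [← hw, ← Scheme.Hom.comp_apply, pullback.lift_snd]
          have h2 : pullback.snd p₁ p₂ x = W₂.ι w' := by
            have := congrArg (fun z => pullback.fst p₂ p₁ z) hw'
            simp only [← Scheme.Hom.comp_apply, pullback.lift_fst, σ,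
              pullbackSymmetry_hom_comp_fst] at this
            exact this.symm
          rw [h1, h2]
          exact w'.2
        refine ⟨⟨w, hwV⟩, ?_⟩
        rw [e₁, Scheme.Hom.comp_apply]
        exact hw
    rw [he]
    exact hφc.inter (hψc.preimage σ.continuous)
  let Y := pushout f g
  have hj : j₁ ≫ pushout.inl f g = j₂ ≫ pushout.inr f g := by
    have h1 : l₁ ≫ f = j₁ := by simp only [f, reassoc_of% hl₁, hk₁]
    have h2 : l₁ ≫ g = j₂ := by rw [hg, reassoc_of% hl₁, hk₁']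
    calc j₁ ≫ pushout.inl f g = (l₁ ≫ f) ≫ pushout.inl f g := by rw [h1]
      _ = (l₁ ≫ g) ≫ pushout.inr f g := by simp only [Category.assoc, pushout.condition]
      _ = j₂ ≫ pushout.inr f g := by rw [h2]
  haveI : IsSeparated (pushout.desc p₁ p₂ hfg) := isSeparated_desc f g _ _ hfg
  haveI : LocallyOfFiniteType (pushout.desc p₁ p₂ hfg) := locallyOfFiniteType_desc f g _ _ hfg
  haveI : QuasiCompact (pushout.desc p₁ p₂ hfg) := quasiCompact_desc f g _ _ hfg
  haveI : CompactSpace ↥(pushout f g) :=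
    QuasiCompact.compactSpace_of_compactSpace (pushout.desc p₁ p₂ hfg)
  haveI : QuasiSeparatedSpace ↥(pushout f g) :=
    quasiSeparatedSpace_of_quasiSeparated (pushout.desc p₁ p₂ hfg)
  haveI : QuasiCompact (j₁ ≫ pushout.inl f g) := quasiCompact_of_compactSpace _
  refine ⟨Y, pushout.desc p₁ p₂ hfg, pushout.inl f g, pushout.inr f g, inferInstance, inferInstance,
    inferInstance, inferInstance, inferInstance, pushout.inl_desc _ _ _, pushout.inr_desc _ _ _, hj,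
    inferInstance, ⟨le_bot_iff.1 fun O s hs => ?_⟩⟩
  rw [Scheme.Hom.ker_apply, RingHom.mem_ker] at hs
  have z₁ : (pushout.inl f g).app O.1 s = 0 := by
    refine (injective_iff_map_eq_zero _).1 (j₁.app_injective _) _ ?_
    rw [← CommRingCat.comp_apply, ← Scheme.Hom.comp_app]
    exact hs
  have z₂ : (pushout.inr f g).app O.1 s = 0 := by
    refine (injective_iff_map_eq_zero _).1 (j₂.app_injective _) _ ?_
    rw [← CommRingCat.comp_apply, ← Scheme.Hom.comp_app]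
    have key : ∀ (m m' : U ⟶ pushout f g), m = m' → m.app O.1 s = 0 → m'.app O.1 s = 0 := by
      rintro m _ rfl h; exact h
    exact key _ _ hj hs
  show s = 0
  refine TopCat.Presheaf.section_ext (pushout f g).sheaf _ _ 0 fun y hy => ?_
  change (pushout f g).presheaf.germ _ y hy s = (pushout f g).presheaf.germ _ y hy 0
  rw [map_zero]
  rcases (Set.ext_iff.1 (range_union f g) y).2 trivial with ⟨x, rfl⟩ | ⟨x, rfl⟩
  · refine (injective_iff_map_eq_zero _).1
      (ConcreteCategory.bijective_of_isIso ((pushout.inl f g).stalkMap x)).1 _ ?_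
    exact (Scheme.Hom.germ_stalkMap_apply (pushout.inl f g) O.1 x hy s).trans (by rw [z₁, map_zero])
  · refine (injective_iff_map_eq_zero _).1
      (ConcreteCategory.bijective_of_isIso ((pushout.inr f g).stalkMap x)).1 _ ?_
    exact (Scheme.Hom.germ_stalkMap_apply (pushout.inr f g) O.1 x hy s).trans (by rw [z₂, map_zero])

end Groth.Agent.H22.Glue2
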